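import Groth.Agent.Lib.DescAlg.Sigma.Family
import Groth.Agent.Lib.DescAlg.FpqcCover
import Groth.Agent.Lib.FFDesc.Glue
import Groth.Agent.Lib.FFDesc.Refine

/-!
Reduction of effectiveness of descent along fpqc families to faithfully flat maps of affine schemes.
-/

set_option autoImplicit false
set_option backward.isDefEq.respectTransparency false
set_option backward.isDefEq.respectTransparency.types false

universe u

open CategoryTheory CategoryTheory.Limits AlgebraicGeometry Desc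

namespace Groth.Agent.Lib.DescAlg.Effective.Fpqc

open Groth.Agent.Lib

variable {ι : Type u} {S : Scheme.{u}} {U : ι → Scheme.{u}} {u : ∀ i, U i ⟶ S}

theorem flat_member (hu : Presieve.ofArrows U u ∈ Scheme.fpqcPrecoverage S) (i : ι) : Flat (u i) :=
  ((Scheme.ofArrows_mem_precoverage_iff (P := @Flat)).1 hu.2).2 i

theorem quasiCompactCover (hu : Presieve.ofArrows U u ∈ Scheme.fpqcPrecoverage S) :
    QuasiCompactCover (PreZeroHypercover.mk ι U u) := by
  rw [← Scheme.presieve₀_mem_qcPrecoverage_iff]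
  exact hu.1

/-- The coproduct of an fpqc family is a single fpqc cover. -/
theorem fpqcCover_sigmaDesc (hu : Presieve.ofArrows U u ∈ Scheme.fpqcPrecoverage S) :
    FFDesc.fpqcCover (Sigma.desc u) := by
  have := fun i ↦ flat_member hu i
  have hflat : Flat (Sigma.desc u) := IsZariskiLocalAtSource.sigmaDesc fun i ↦ inferInstance
  have := quasiCompactCover hu
  refine ⟨?_, ?_⟩
  · rw [← PreZeroHypercover.presieve₀_singleton.{_, _, 0}, Scheme.presieve₀_mem_qcPrecoverage_iff]
    refine ⟨fun {W} hW ↦ ?_⟩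
    obtain ⟨n, a, V, hV, hcov⟩ :=
      QuasiCompactCover.exists_isAffineOpen_of_isCompact (PreZeroHypercover.mk ι U u) hW.isCompact
    refine IsCompactOpenCovered.of_finite (κ := Fin n) (fun _ ↦ PUnit.unit)
      (fun k ↦ (Sigma.ι U (a k)) ''ᵁ V k) (fun k ↦ ?_) ?_
    · exact ((hV k).image_of_isOpenImmersion _).isCompact
    · rw [← hcov]
      refine Set.iUnion_congr fun k ↦ ?_
      show Sigma.desc u '' (Sigma.ι U (a k) '' (V k : Set (U (a k)))) = _
      rw [← Set.image_comp]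
      exact Set.image_congr fun x _ ↦ by rw [Function.comp, ← Scheme.Hom.comp_apply, Sigma.ι_desc]
  · rw [← Presieve.ofArrows_pUnit.{0}]
    refine (Scheme.ofArrows_mem_precoverage_iff (P := @Flat)).2 ⟨fun s ↦ ?_, fun _ ↦ hflat⟩
    obtain ⟨i, x, hx⟩ := ((Scheme.ofArrows_mem_precoverage_iff (P := @Flat)).1 hu.2).1 s
    exact ⟨⟨⟩, Sigma.ι U i x, by rw [← Scheme.Hom.comp_apply, Sigma.ι_desc, hx]⟩

variable (P : MorphismProperty Scheme.{u}) [P.IsStableUnderBaseChange]

/-- A morphism to a finite coproduct is the coproduct of its restrictions. -/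
theorem of_finite_coproduct
    (h2 : ∀ (m : ℕ) (Y V : Fin m → Scheme.{u}) (q : ∀ j, Y j ⟶ V j), (∀ j, P (q j)) →
      P (Limits.Sigma.map q))
    {m : ℕ} {Z : Fin m → Scheme.{u}} {Q : Scheme.{u}} (g : Q ⟶ ∐ Z)
    (hg : ∀ j, P (pullback.snd g (Sigma.ι Z j))) : P g := by
  let Y : Fin m → Scheme.{u} := fun j ↦ pullback g (Sigma.ι Z j)
  let e : ∀ j, Y j ⟶ Q := fun j ↦ pullback.fst _ _
  have hcov : ⨆ j, (e j).opensRange = ⊤ := by
    refine top_le_iff.1 fun z _ ↦ ?_
    obtain ⟨j, y, hy⟩ := (sigmaOpenCover Z).exists_eq (g z)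
    obtain ⟨w, hw, -⟩ := Scheme.exists_preimage_of_isPullback
      (IsPullback.of_hasPullback g (Sigma.ι Z j)) z y hy.symm
    exact TopologicalSpace.Opens.mem_iSup.2 ⟨j, w, hw⟩
  have hdisj : Pairwise (Function.onFun Disjoint (e · |>.opensRange)) := fun i j hij ↦ by
    simp only [Function.onFun]
    rw [disjoint_iff_inf_le]
    rintro z ⟨⟨a, ha⟩, b, hb⟩
    exact (disjoint_opensRange_sigmaι Z i j hij).le_bot (x := g z)
      ⟨⟨pullback.snd g (Sigma.ι Z i) a, by
          rw [← ha, ← Scheme.Hom.comp_apply, ← pullback.condition, Scheme.Hom.comp_apply]⟩,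
        ⟨pullback.snd g (Sigma.ι Z j) b, by
          rw [← hb, ← Scheme.Hom.comp_apply, ← pullback.condition, Scheme.Hom.comp_apply]⟩⟩
  obtain ⟨hc⟩ := nonempty_isColimit_cofanMk_of e hcov hdisj
  let d : ∐ Y ≅ Q := (coproductIsCoproduct Y).coconePointUniqueUpToIso hc
  have hd : ∀ j, Sigma.ι Y j ≫ d.hom = e j := fun j ↦
    (coproductIsCoproduct Y).comp_coconePointUniqueUpToIso_hom hc ⟨j⟩
  have he : d.hom ≫ g = Limits.Sigma.map fun j ↦ pullback.snd g (Sigma.ι Z j) := by
    refine Limits.Sigma.hom_ext _ _ fun j ↦ ?_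
    rw [reassoc_of% hd j, Limits.Sigma.ι_map]
    exact pullback.condition
  rw [← P.cancel_left_of_respectsIso d.hom g, he]
  exact h2 m Y Z _ hg

open DDFam.Cover DDFam.Basic in
/-- Pullback carries canonical data to canonical data. -/
noncomputable def pullCanonicalIso {κ : Type u} {V : κ → Scheme.{u}} (f : ∀ j, V j ⟶ S)
    (u : ∀ i, U i ⟶ S) (α : ι → κ) (g : ∀ i, U i ⟶ V (α i))
    (w : ∀ i, g i ≫ f (α i) = u i ≫ 𝟙 S) (T : Over S) :
    (pullDDFam w).obj ((toDDFam f).obj T) ≅ (toDDFam u).obj T :=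
  (pullDDFam w).mapIso ((toDDFamIso f).symm.app T) ≪≫
    (compIso (f := fun _ : PUnit.{u + 1} => 𝟙 S) (f' := f) (f'' := u) (id_w f) w).app
      ((toDDFam (fun _ : PUnit.{u + 1} => 𝟙 S)).obj T) ≪≫
    (homotopyIso (f := fun _ : PUnit.{u + 1} => 𝟙 S) (f' := u) (comp_w (id_w f) w) (id_w u)
      (by simp)).app ((toDDFam (fun _ : PUnit.{u + 1} => 𝟙 S)).obj T) ≪≫ (toDDFamIso u).app T

/-- A datum restricted from an effective datum on the coproduct is effective. -/
theorem isEffective_of_datum (D : SchDDFam u) {T : Over S}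
    (e : (toDD (Sigma.desc u)).obj T ≅ Sigma.Family.datum D) : D.IsEffective := by
  let e1 : (toDDFam (fun _ : PUnit.{u + 1} => Sigma.desc u)).obj T ≅
      (SchDDFam.ofSchDD (Sigma.desc u)).obj (Sigma.Family.datum D) :=
    (SchDDFam.ofSchDD (Sigma.desc u)).mapIso e
  exact ⟨T, ⟨(pullCanonicalIso (fun _ : PUnit.{u + 1} => Sigma.desc u) u (fun _ ↦ PUnit.unit)
      (fun i ↦ Sigma.ι U i) (Sigma.Family.ι_w (u := u)) T).symm ≪≫
    (pullDDFam (f := fun _ : PUnit.{u + 1} => Sigma.desc u) (f' := u) (α := fun _ ↦ PUnit.unit)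
      (p := 𝟙 S) (p' := fun i ↦ Sigma.ι U i) (Sigma.Family.ι_w (u := u))).mapIso e1 ≪≫
    Sigma.Family.restrictIso D⟩⟩

/-- Reduction to faithfully flat morphisms of affine schemes. -/
theorem isEffective
    (h2 : ∀ (m : ℕ) (Y V : Fin m → Scheme.{u}) (q : ∀ j, Y j ⟶ V j), (∀ j, P (q j)) →
      P (Limits.Sigma.map q))
    (h3 : ∀ (X S : Scheme.{u}) (p : X ⟶ S), IsAffine X → IsAffine S → Flat p → Surjective p →
      ∀ D : Desc.SchDD p, P D.obj.hom → ∃ U : Over S, Nonempty ((Desc.toDD p).obj U ≅ D))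
    (hu : Presieve.ofArrows U u ∈ Scheme.fpqcPrecoverage S) (D : SchDDFam u)
    (hD : ∀ i, P (D.obj i).hom) : D.IsEffective := by
  let σ := Sigma.desc u
  let E := Sigma.Family.datum D
  have hσ : FFDesc.fpqcCover σ := fpqcCover_sigmaDesc hu
  have := quasiCompactCover hu
  have hpieces : ∀ W : S.affineOpens, ∃ (T : Over (W.1 : Scheme.{u}))
      (q : pullback E.obj.hom (pullback.fst σ W.1.ι) ⟶ T.left),
      FFDesc.IsDescended (FFDesc.piece E W.1) T q := by
    intro W
    have : IsAffine (W.1 : Scheme.{u}) := W.2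
    obtain ⟨n, Z, a, t, l, hA, hf, hs, hqc, -, hcomp⟩ :=
      FpqcCover.exists_refinement (PreZeroHypercover.mk ι U u) (flat_member hu) W.1.ι
    let r : ∐ Z ⟶ pullback σ W.1.ι := pullback.lift (Sigma.desc fun k ↦ l k ≫ Sigma.ι U (a k)) t
      (Limits.Sigma.hom_ext _ _ fun k ↦ by
        rw [Sigma.ι_desc_assoc, Category.assoc, Sigma.ι_desc, hcomp k])
    have hr : r ≫ pullback.snd σ W.1.ι = t := pullback.lift_snd _ _ _
    let D'' := FFDesc.restrict (FFDesc.piece E W.1) t r (𝟙 _) ((Category.comp_id _).trans hr.symm)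
    have hP : P D''.obj.hom := by
      let g := pullback.snd (pullback.snd E.obj.hom (pullback.fst σ W.1.ι)) r
      show P g
      refine of_finite_coproduct P h2 g fun k ↦ ?_
      rw [FpqcCover.snd_iff P, FpqcCover.snd_iff P, Category.assoc, pullback.lift_fst, Sigma.ι_desc,
        ← FpqcCover.snd_iff P]
      refine P.pullback_snd _ _ ?_
      show P (pullback.snd (Limits.Sigma.map fun i ↦ (D.obj i).hom) (Sigma.ι U (a k)))
      rw [← (Sigma.Coprod.isPullback_map (fun i ↦ (D.obj i).hom) (a k)).flip.isoPullback_inv_snd]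
      exact (P.cancel_left_of_respectsIso _ _).2 (hD (a k))
    obtain ⟨T, ⟨e⟩⟩ := h3 (∐ Z) W.1 t hA inferInstance hf hs D'' hP
    obtain ⟨q, hq⟩ := FFDesc.exists_isDescended_of_restrict (D := FFDesc.piece E W.1) t r hr
      (FFDesc.fpqcCover_of_quasiCompact t) (FFDesc.exists_isDescended_of_iso _ e)
    exact ⟨T, q, hq⟩
  choose TW qW HW using hpieces
  obtain ⟨T, q, H, -⟩ := FFDesc.exists_isDescended_of_pieces E hσ TW qW HW
  exact isEffective_of_datum D H.iso

end Groth.Agent.Lib.DescAlg.Effective.Fpqc
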