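import Groth.Agent.Lib.DescAlg.Effective.Opens
import Groth.Agent.Lib.DescAlg.IndQA.Saturation
import Groth.Agent.Lib.FFDesc.Effective
import Mathlib.AlgebraicGeometry.Morphisms.Finite
import Mathlib.AlgebraicGeometry.Morphisms.QuasiFinite
import Mathlib.AlgebraicGeometry.Morphisms.UniversallyOpen

/-!
Descent along finite locally free covers when finite subsets of fibres lie in affine opens.
-/

set_option autoImplicit false
set_option backward.isDefEq.respectTransparency false
set_option backward.isDefEq.respectTransparency.types false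

universe u

open CategoryTheory CategoryTheory.Limits AlgebraicGeometry TopologicalSpace

namespace Groth.Agent.Lib.DescAlg.Effective.FiniteCover

open Groth.Agent.Lib.FFDesc DescAlg.IndQA

variable {X Y : Scheme.{u}} {p : X ⟶ Y}

/-- Orbits lie in opens all whose quasi-compact opens are quasi-affine. -/
def OrbitsQA (D : Desc.SchDD p) : Prop :=
  ∀ v : D.obj.left, ∃ U : D.obj.left.Opens, Saturation.Sat D {v} ⊆ U ∧
      ∀ W : D.obj.left.Opens, W ≤ U → IsCompact (W : Set D.obj.left) →
        Scheme.IsQuasiAffine (W : Scheme.{u})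

/-- An orbit lies over one point of the base. -/
theorem apply_of_mem_sat (D : Desc.SchDD p) {v w : D.obj.left} (hw : w ∈ Saturation.Sat D {v}) :
    p (D.obj.hom w) = p (D.obj.hom v) := by
  obtain ⟨t, ht, rfl⟩ := hw
  have e : act D ≫ D.obj.hom ≫ p = pr D ≫ D.obj.hom ≫ p := by
    rw [act_hom_assoc]; exact pullback.condition.symm
  rw [show v = act D t from ht.symm, ← Scheme.Hom.comp_apply, ← Scheme.Hom.comp_apply,
    ← Scheme.Hom.comp_apply, ← Scheme.Hom.comp_apply, e]

theorem finite_sat [IsFinite p] (D : Desc.SchDD p) (v : D.obj.left) :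
    (Saturation.Sat D {v}).Finite := by
  have : IsFinite (pr D) := MorphismProperty.pullback_fst _ _ ‹IsFinite p›
  have : IsFinite (act D) := by
    have := Saturation.isIso_swap D
    rw [← swap_pr D]
    infer_instance
  exact ((act D).finite_preimage_singleton v).image _

theorem affine_case [IsAffine Y] [IsFinite p] [Flat p] [Surjective p]
    [LocallyOfFinitePresentation p] (D : Desc.SchDD p) (hV : OrbitsQA D) :
    ∃ (U : Over Y) (q : D.obj.left ⟶ U.left), IsDescended D U q := by
  have : IsAffine X := isAffine_of_isAffineHom p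
  have hp : fpqcCover p := fpqcCover_of_quasiCompact p
  have hfin : IsFinite (pr D) := MorphismProperty.pullback_fst _ _ ‹IsFinite p›
  have hfin' : IsFinite (act D) := by
    have := Saturation.isIso_swap D
    rw [← swap_pr D]
    infer_instance
  have ho : IsOpenMap (pr D) := by
    have : LocallyOfFinitePresentation (pr D) :=
      MorphismProperty.pullback_fst _ _ ‹LocallyOfFinitePresentation p›
    have : Flat (pr D) := MorphismProperty.pullback_fst _ _ ‹Flat p›
    exact (pr D).isOpenMap
  refine OpensCover.exists_isDescended_of_cover hp D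
    (fun O ↦ ∃ hO : Invariant D O, ∃ (U : Over Y) (q : (O : Scheme.{u}) ⟶ U.left),
      IsDescended (subDatum D hO) U q)
    (fun O O' ⟨hO, U, q, H⟩ ⟨hO', _⟩ ↦
      ⟨hO.inf D hO', Opens.exists_of_le hp D (hO.inf D hO') hO inf_le_left H⟩)
    (fun O hO ↦ hO.choose) (fun v ↦ ?_) (fun O hO ↦ hO.choose_spec)
  obtain ⟨U, hsU, hU⟩ := hV v
  have hclosed : IsClosed (Saturation.Sat D (U : Set D.obj.left)ᶜ) :=
    (pr D).isClosedMap _ (U.2.isClosed_compl.preimage (act D).continuous)
  let O : D.obj.left.Opens := ⟨(Saturation.Sat D (U : Set D.obj.left)ᶜ)ᶜ, hclosed.isOpen_compl⟩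
  have hOU : O ≤ U := fun w hw ↦ by
    by_contra h
    exact hw (Saturation.subset_sat D _ h)
  have hvO : v ∈ O := by
    rintro ⟨t, ht, htv⟩
    obtain ⟨c, h1, h2⟩ : ∃ c, act D c = v ∧ pr D c = act D t :=
      ⟨swap D t, (Saturation.act_swap D t).trans htv, Saturation.pr_swap D t⟩
    exact ht (hsU ⟨c, h1, h2⟩)
  have hOinv : Invariant D O := by
    ext t
    exact not_congr ⟨Saturation.act_mem_sat D t, Saturation.pr_mem_sat D t⟩
  obtain ⟨W, hWc, hvW, hWO⟩ := Saturation.exists_compact_open (isCompact_singleton (x := v)) O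
    (Set.singleton_subset_iff.2 hvO)
  let O' := saturation D ho W
  have hinv := invariant_saturation D ho W
  have hO'O : O' ≤ O := by
    rintro w ⟨t, ht, rfl⟩
    exact (hOinv.mem_iff D t).2 (hWO ht)
  have hc : IsCompact (O' : Set D.obj.left) := isCompact_saturation D ho hWc
  refine ⟨O', ⟨hinv, ?_⟩, le_saturation D ho W (hvW rfl)⟩
  have : Scheme.IsQuasiAffine (subDatum D hinv).obj.left := hU O' (hO'O.trans hOU) hc
  obtain ⟨T, q, H, -⟩ := exists_isDescended_of_quasiAffine (subDatum D hinv)
  exact ⟨T, q, H⟩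

/-- Opens of a piece over an affine open coming from affine opens. -/
theorem piece_QA (D : Desc.SchDD p) (W : Y.Opens)
    (U : D.obj.left.Opens) (hU : IsAffineOpen U)
    (O : (pullback D.obj.hom (pullback.fst p W.ι)).Opens)
    (hO : O ≤ pullback.fst D.obj.hom (pullback.fst p W.ι) ⁻¹ᵁ U) (hOc : IsCompact (O : Set ↥(pullback D.obj.hom (pullback.fst p W.ι)))) :
    Scheme.IsQuasiAffine (O : Scheme.{u}) := by
  have : IsAffine (U : Scheme.{u}) := hU
  have : CompactSpace (O : Scheme.{u}) := isCompact_iff_compactSpace.1 hOc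
  have hle : (pullback.fst D.obj.hom (pullback.fst p W.ι)) ''ᵁ O ≤ U := by
    rintro _ ⟨w, hw, rfl⟩
    exact hO hw
  exact Scheme.IsQuasiAffine.of_isImmersion
    (((pullback.fst D.obj.hom (pullback.fst p W.ι)).isoImage O).hom ≫ D.obj.left.homOfLE hle)

theorem apply_piece (D : Desc.SchDD p) (W : Y.Opens) (w : (piece D W).obj.left) :
    p (D.obj.hom (pullback.fst D.obj.hom (pullback.fst p W.ι) w)) =
      W.ι (pullback.snd p W.ι ((piece D W).obj.hom w)) := by
  show p (D.obj.hom (pullback.fst D.obj.hom (pullback.fst p W.ι) w)) =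
      W.ι (pullback.snd p W.ι (pullback.snd D.obj.hom (pullback.fst p W.ι) w))
  simp only [← Scheme.Hom.comp_apply]
  simp only [Category.assoc, pullback.condition_assoc, pullback.condition]

/-- Effectiveness from the orbit condition on every piece. -/
theorem exists_iso_of_pieces [IsFinite p] [Flat p] [Surjective p] [LocallyOfFinitePresentation p]
    (D : Desc.SchDD p) (hV : ∀ W : Y.affineOpens, OrbitsQA (piece D W.1)) :
    ∃ T : Over Y, Nonempty ((Desc.toDD p).obj T ≅ D) := by
  have hpieces : ∀ W : Y.affineOpens, ∃ (T : Over (W.1 : Scheme.{u}))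
      (q : pullback D.obj.hom (pullback.fst p W.1.ι) ⟶ T.left), IsDescended (piece D W.1) T q :=
    fun W ↦ haveI : IsAffine (W.1 : Scheme.{u}) := W.2; affine_case (piece D W.1) (hV W)
  choose TW qW HW using hpieces
  obtain ⟨T, q, H, -⟩ := exists_isDescended_of_pieces D (fpqcCover_of_quasiCompact p) TW qW HW
  exact H.exists_iso

theorem exists_iso [IsFinite p] [Flat p] [Surjective p] [LocallyOfFinitePresentation p]
    (D : Desc.SchDD p)
    (hV : ∀ (y : Y) (s : Finset D.obj.left), (∀ v ∈ s, p (D.obj.hom v) = y) →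
      ∃ U : D.obj.left.Opens, IsAffineOpen U ∧ ∀ v ∈ s, v ∈ U) :
    ∃ T : Over Y, Nonempty ((Desc.toDD p).obj T ≅ D) := by
  refine exists_iso_of_pieces D fun W v ↦ ?_
  classical
  let π := pullback.fst D.obj.hom (pullback.fst p W.1.ι)
  have hf := (finite_sat (piece D W.1) v).image π
  obtain ⟨U, hUaff, hU⟩ := hV (p (D.obj.hom (π v))) hf.toFinset (fun x hx ↦ by
    obtain ⟨w, hw, rfl⟩ := hf.mem_toFinset.1 hx
    rw [apply_piece, apply_piece]
    exact congrArg W.1.ι (apply_of_mem_sat (piece D W.1) hw))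
  exact ⟨π ⁻¹ᵁ U, fun w hw ↦ hU _ (hf.mem_toFinset.2 ⟨w, hw, rfl⟩),
    fun O hO hOc ↦ piece_QA D W.1 U hUaff O hO hOc⟩

end Groth.Agent.Lib.DescAlg.Effective.FiniteCover
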