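import Groth.Agent.Lib.DescAlg.Effective.FiniteCover
import Mathlib.AlgebraicGeometry.AlgClosed.Basic
import Mathlib.FieldTheory.IsAlgClosed.AlgebraicClosure
import Mathlib.Data.List.GetD

/-!
Descent along finite locally free covers of bounded geometric degree.
-/

set_option autoImplicit false
set_option backward.isDefEq.respectTransparency false
set_option backward.isDefEq.respectTransparency.types false

universe u

open CategoryTheory CategoryTheory.Limits AlgebraicGeometry TopologicalSpace

namespace Groth.Agent.Lib.DescAlg.Effective.FiniteBound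

open Groth.Agent.Lib.FFDesc DescAlg.IndQA

variable {X Y : Scheme.{u}} {p : X ⟶ Y}

/-- An orbit has at most as many points as a geometric fibre of the cover. -/
theorem encard_sat_le [IsFinite p] (d : ℕ)
    (hfib : ∀ (k : Type u) [Field k] [IsAlgClosed k] (y : Spec (CommRingCat.of k) ⟶ Y),
      Set.encard {x : Spec (CommRingCat.of k) ⟶ X | x ≫ p = y} ≤ d)
    (D : Desc.SchDD p) (v : D.obj.left) :
    (Saturation.Sat D {v}).encard ≤ d := by
  let κ := D.obj.left.residueField v
  let k := AlgebraicClosure κ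
  let vk : Spec (CommRingCat.of k) ⟶ D.obj.left :=
    Spec.map (CommRingCat.ofHom (algebraMap κ k)) ≫ D.obj.left.fromSpecResidueField v
  let o := IsLocalRing.closedPoint k
  have hvk : ∀ z, vk z = v := fun z ↦ by
    rw [Scheme.Hom.comp_apply]
    exact Scheme.fromSpecResidueField_apply v _
  let f := pullback.fst vk (pr D)
  have hf : IsFinite f := by
    have : IsFinite (pr D) := MorphismProperty.pullback_fst _ _ ‹IsFinite p›
    exact MorphismProperty.pullback_fst _ _ this
  have hclosed : ∀ q : ↥(pullback vk (pr D)), IsClosed ({q} : Set _) := fun q ↦ by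
    have h := f.isDiscrete_preimage_singleton o
    have huniv : f ⁻¹' {o} = Set.univ := Set.eq_univ_of_forall fun z ↦ Subsingleton.elim (α := PrimeSpectrum k) _ _
    rw [huniv, isDiscrete_univ_iff] at h
    exact isClosed_discrete _
  let G : (Spec (CommRingCat.of k) ⟶ pullback vk (pr D)) → D.obj.left := fun s ↦
    act D (pullback.snd vk (pr D) (s o))
  let Pts := {s : Spec (CommRingCat.of k) ⟶ pullback vk (pr D) // s ≫ f = 𝟙 _}
  let F : Pts → {x : Spec (CommRingCat.of k) ⟶ X | x ≫ p = vk ≫ D.obj.hom ≫ p} := fun s ↦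
    ⟨s.1 ≫ pullback.snd vk (pr D) ≫ pr₁ D, by
      show (s.1 ≫ pullback.snd vk (pr D) ≫ pr₁ D) ≫ p = _
      have h1 := congrArg (· ≫ vk ≫ D.obj.hom ≫ p) s.2
      simp only [Category.assoc, Category.id_comp] at h1
      rw [← h1, Category.assoc, Category.assoc, pullback.condition_assoc]
      exact congrArg (fun m ↦ s.1 ≫ pullback.snd vk (pr D) ≫ m) pullback.condition.symm⟩
  have hF : Function.Injective F := fun s s' h ↦ Subtype.ext (by
    apply pullback.hom_ext
    · rw [s.2, s'.2]
    · apply pullback.hom_ext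
      · rw [Category.assoc, Category.assoc]
        rw [← pullback.condition (f := vk) (g := pr D)]
        rw [reassoc_of% s.2, reassoc_of% s'.2]
      · simpa [F] using congrArg Subtype.val h)
  have hsub : Saturation.Sat D {v} ⊆ Set.range (fun s : Pts ↦ G s.1) := by
    rintro w ⟨t, ht, rfl⟩
    have h0 : vk o = pr D (swap D t) := by
      rw [hvk, Saturation.pr_swap]
      exact ht.symm
    obtain ⟨q, -, hq⟩ := Scheme.Pullback.exists_preimage_pullback (f := vk) (g := pr D) o (swap D t) h0
    refine ⟨⟨pointOfClosedPoint f q (hclosed q), pointOfClosedPoint_comp f q (hclosed q)⟩, ?_⟩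
    show act D (pullback.snd vk (pr D) (pointOfClosedPoint f q (hclosed q) o)) = _
    rw [pointOfClosedPoint_apply, hq, Saturation.act_swap]
  calc (Saturation.Sat D {v}).encard ≤ (Set.range fun s : Pts ↦ G s.1).encard :=
        Set.encard_le_encard hsub
    _ ≤ (Set.univ : Set Pts).encard := by
        rw [← Set.image_univ]; exact Set.encard_image_le _ _
    _ = (F '' Set.univ).encard := (hF.encard_image _).symm
    _ ≤ (Set.univ : Set {x : Spec (CommRingCat.of k) ⟶ X | x ≫ p = vk ≫ D.obj.hom ≫ p}).encard :=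
        Set.encard_le_encard (Set.subset_univ _)
    _ ≤ d := by rw [Set.encard_univ, ENat.card_coe_set_eq]; exact hfib k _

/-- A finite nonempty set of at most `d` elements is enumerated by `Fin d`. -/
theorem exists_enum {α : Type u} {s : Set α} {a : α} (ha : a ∈ s) {d : ℕ} (hs : s.encard ≤ d) :
    ∃ v : Fin d → α, s ⊆ Set.range v ∧ Set.range v ⊆ s := by
  classical
  have hfin : s.Finite := Set.finite_of_encard_le_coe hs
  let l := hfin.toFinset.toList
  have hl : l.length ≤ d := by
    rw [Finset.length_toList, ← ENat.coe_le_coe, ← hfin.encard_eq_coe_toFinset_card]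
    exact hs
  refine ⟨fun i ↦ l.getD i a, fun x hx ↦ ?_, ?_⟩
  · obtain ⟨i, hi, rfl⟩ := List.mem_iff_getElem.1 (Finset.mem_toList.2 (hfin.mem_toFinset.2 hx))
    exact ⟨⟨i, lt_of_lt_of_le hi hl⟩, List.getD_eq_getElem _ _ hi⟩
  · rintro _ ⟨i, rfl⟩
    show l.getD i a ∈ s
    by_cases hi : (i : ℕ) < l.length
    · rw [List.getD_eq_getElem _ _ hi]
      exact hfin.mem_toFinset.1 (Finset.mem_toList.1 (List.getElem_mem hi))
    · rw [List.getD_eq_default _ _ (not_lt.1 hi)]
      exact ha

theorem exists_iso [IsFinite p] [Flat p] [Surjective p] [LocallyOfFinitePresentation p] (d : ℕ)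
    (hfib : ∀ (k : Type u) [Field k] [IsAlgClosed k] (y : Spec (CommRingCat.of k) ⟶ Y),
      Set.encard {x : Spec (CommRingCat.of k) ⟶ X | x ≫ p = y} ≤ d)
    (D : Desc.SchDD p)
    (hV : ∀ (y : Y) (v : Fin d → D.obj.left), (∀ i, p (D.obj.hom (v i)) = y) →
      ∃ U : D.obj.left.Opens, IsAffineOpen U ∧ ∀ i, v i ∈ U) :
    ∃ T : Over Y, Nonempty ((Desc.toDD p).obj T ≅ D) := by
  refine FiniteCover.exists_iso_of_pieces D fun W v ↦ ?_
  let π := pullback.fst D.obj.hom (pullback.fst p W.1.ι)
  have : IsFinite (pullback.snd p W.1.ι) := MorphismProperty.pullback_snd _ _ ‹IsFinite p›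
  have hb : (π '' Saturation.Sat (piece D W.1) {v}).encard ≤ d := by
    refine (Set.encard_image_le _ _).trans (encard_sat_le d (fun k _ _ y ↦ ?_) (piece D W.1) v)
    refine le_trans ?_ (hfib k (y ≫ W.1.ι))
    refine Set.encard_le_encard_of_injOn (f := fun x ↦ x ≫ pullback.fst p W.1.ι) (fun x hx ↦ ?_) ?_
    · show (x ≫ pullback.fst p W.1.ι) ≫ p = y ≫ W.1.ι
      rw [Category.assoc, pullback.condition, ← Category.assoc, hx]
    · intro x _ x' _ h
      exact (cancel_mono (pullback.fst p W.1.ι)).1 h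
  obtain ⟨e, he, he'⟩ := exists_enum
    (Set.mem_image_of_mem π (Saturation.subset_sat (piece D W.1) _ (Set.mem_singleton v))) hb
  obtain ⟨U, hUaff, hU⟩ := hV (p (D.obj.hom (π v))) e (fun i ↦ by
    obtain ⟨w, hw, hwe⟩ := he' ⟨i, rfl⟩
    rw [← hwe, FiniteCover.apply_piece, FiniteCover.apply_piece]
    exact congrArg W.1.ι (FiniteCover.apply_of_mem_sat (piece D W.1) hw))
  refine ⟨π ⁻¹ᵁ U, fun w hw ↦ ?_, fun O hO hOc ↦ FiniteCover.piece_QA D W.1 U hUaff O hO hOc⟩
  obtain ⟨i, hi⟩ := he ⟨w, hw, rfl⟩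
  show π w ∈ U
  rw [← hi]
  exact hU i

end Groth.Agent.Lib.DescAlg.Effective.FiniteBound
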