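import Groth.Agent.Lib.DescAlg.Effective.Fpqc
import Groth.Agent.Lib.FFDesc.Effective
import Mathlib.AlgebraicGeometry.Morphisms.FlatDescent
import Mathlib.AlgebraicGeometry.Morphisms.QuasiCompact

/-!
Effective descent of open and closed immersions along fpqc families.
-/

set_option autoImplicit false
set_option backward.isDefEq.respectTransparency false
set_option backward.isDefEq.respectTransparency.types false

universe u

open CategoryTheory CategoryTheory.Limits AlgebraicGeometry Desc

namespace Groth.Agent.Lib.DescAlg.Effective.Immersion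

open Groth.Agent.Lib

theorem sigmaMap_of_local (P : MorphismProperty Scheme.{u}) [IsZariskiLocalAtTarget P] (m : ℕ)
    (Y V : Fin m → Scheme.{u}) (q : ∀ j, Y j ⟶ V j) (h : ∀ j, P (q j)) :
    P (Limits.Sigma.map q) := by
  refine IsZariskiLocalAtTarget.of_openCover (P := P) (sigmaOpenCover V) fun j ↦ ?_
  show P (pullback.snd (Limits.Sigma.map q) (Sigma.ι V j))
  rw [← (Sigma.Coprod.isPullback_map q j).flip.isoPullback_inv_snd]
  exact (P.cancel_left_of_respectsIso _ _).2 (h j)

theorem exists_of_isOpenImmersion {X S : Scheme.{u}} (p : X ⟶ S) [Flat p] [Surjective p]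
    [QuasiCompact p] (D : Desc.SchDD p) [IsOpenImmersion D.obj.hom] :
    ∃ U : Over S, Nonempty ((Desc.toDD p).obj U ≅ D) := by
  let h := D.obj.hom
  have hsat : ∀ x : X, p x ∈ p '' Set.range h → x ∈ Set.range h := by
    rintro x ⟨_, ⟨v, rfl⟩, hv⟩
    obtain ⟨t, -, ht₂⟩ := Scheme.Pullback.exists_preimage_pullback (f := h ≫ p) (g := p) v x
      (by simpa using hv)
    refine ⟨FFDesc.act D t, ?_⟩
    rw [← Scheme.Hom.comp_apply, show FFDesc.act D ≫ h = FFDesc.pr₁ D from FFDesc.act_hom D]
    exact ht₂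
  have hpre : p ⁻¹' (p '' Set.range h) = Set.range h :=
    Set.Subset.antisymm hsat (Set.subset_preimage_image _ _)
  let W : S.Opens := ⟨p '' Set.range h,
    (Flat.isQuotientMap_of_surjective p).isOpen_preimage.1 (by rw [hpre]; exact h.isOpenEmbedding.isOpen_range)⟩
  have hrange : Set.range (h ≫ p) ⊆ Set.range W.ι := by
    rw [Scheme.Opens.range_ι]
    rintro _ ⟨v, rfl⟩
    exact ⟨h v, ⟨v, rfl⟩, rfl⟩
  let q : D.obj.left ⟶ W := IsOpenImmersion.lift W.ι (h ≫ p) hrange
  have hq : q ≫ W.ι = h ≫ p := IsOpenImmersion.lift_fac _ _ _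
  have H : FFDesc.IsDescended D (Over.mk W.ι) q := by
    refine ⟨(IsOpenImmersion.isPullback _ _ _ _ hq.symm ?_).flip, ?_⟩
    · ext x
      simp only [Scheme.Hom.coe_opensRange, Scheme.Opens.opensRange_ι]
      exact ⟨hsat x, fun hx ↦ ⟨x, hx, rfl⟩⟩
    · rw [← cancel_mono W.ι, Category.assoc, Category.assoc, hq, FFDesc.act_hom_assoc]
      exact pullback.condition
  exact H.exists_iso

variable {ι : Type u} {S : Scheme.{u}} {U : ι → Scheme.{u}} {u : ∀ i, U i ⟶ S}

theorem open_effective (hu : Presieve.ofArrows U u ∈ Scheme.fpqcPrecoverage S) (D : SchDDFam u)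
    (hD : ∀ i, IsOpenImmersion (D.obj i).hom) : D.IsEffective :=
  Fpqc.isEffective @IsOpenImmersion (sigmaMap_of_local _)
    (fun _ _ p _ _ _ _ E hE ↦ exists_of_isOpenImmersion p E) hu D hD

theorem closed_effective (hu : Presieve.ofArrows U u ∈ Scheme.fpqcPrecoverage S) (D : SchDDFam u)
    (hD : ∀ i, IsClosedImmersion (D.obj i).hom) : D.IsEffective :=
  Fpqc.isEffective @IsClosedImmersion (sigmaMap_of_local _)
    (fun _ _ p _ _ _ _ E hE ↦ by
      have : IsAffineHom E.obj.hom := inferInstance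
      have hqa : Mor2.IsQuasiAffine E.obj.hom := ⟨inferInstance, fun V hV ↦
        have : IsAffine (E.obj.hom ⁻¹ᵁ V : Scheme.{u}) := hV.preimage E.obj.hom
        inferInstance⟩
      obtain ⟨T, q, H, -, -⟩ := FFDesc.exists_isDescended E (FFDesc.fpqcCover_of_quasiCompact p) hqa
      exact H.exists_iso) hu D hD

end Groth.Agent.Lib.DescAlg.Effective.Immersion
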