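import Groth.Agent.Lib.DescAlg.Effective.OpensCover

/-!
Invariant opens of descended data, and descent data covered by effective open subdata.
-/

set_option autoImplicit false
set_option backward.isDefEq.respectTransparency false
set_option backward.isDefEq.respectTransparency.types false

universe u

open CategoryTheory CategoryTheory.Limits AlgebraicGeometry TopologicalSpace

namespace Groth.Agent.Lib.DescAlg.Effective.Opens

open Groth.Agent.Lib.FFDesc

variable {X S : Scheme.{u}} {p : X ⟶ S}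

/-- Invariant opens of an effective invariant open are effective. -/
theorem exists_of_le (hp : fpqcCover p) (D : Desc.SchDD p) {O O' : D.obj.left.Opens}
    (hO : Invariant D O) (hO' : Invariant D O') (hle : O ≤ O')
    {U : Over S} {q : (O' : Scheme.{u}) ⟶ U.left} (H : IsDescended (subDatum D hO') U q) :
    ∃ (W : Over S) (q' : (O : Scheme.{u}) ⟶ W.left), IsDescended (subDatum D hO) W q' := by
  let i := D.obj.left.homOfLE hle
  have hi : i ≫ O'.ι = O.ι := D.obj.left.homOfLE_ι hle
  have hpre : q ⁻¹' (q '' Set.range i) = Set.range i := by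
    refine Set.Subset.antisymm ?_ (Set.subset_preimage_image _ _)
    rintro b ⟨_, ⟨a, rfl⟩, hab⟩
    obtain ⟨t, ht₁, ht₂⟩ := Scheme.Pullback.exists_preimage_pullback (f := q) (g := q) (i a) b hab
    let T := Spec ((pullback q q).residueField t)
    let g : T ⟶ pullback q q := (pullback q q).fromSpecResidueField t
    let A := g ≫ pullback.fst q q
    let B := g ≫ pullback.snd q q
    have hAB : A ≫ q = B ≫ q := by simp only [A, B, Category.assoc, pullback.condition]
    obtain ⟨h', hB⟩ := H.kernelPair (D := subDatum D hO') A B hAB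
    have hA : Set.range (A ≫ O'.ι) ⊆ (O : Set D.obj.left) := by
      rintro _ ⟨z, rfl⟩
      have ez : A z = i a := by
        rw [← ht₁]
        simp only [A, g, Scheme.Hom.comp_apply]
        exact congrArg (pullback.fst q q) (Scheme.fromSpecResidueField_apply t z)
      rw [Scheme.Hom.comp_apply, ez, ← Scheme.Hom.comp_apply, hi]
      exact a.2
    have htr : B ≫ O'.ι = tr D (A ≫ O'.ι) (B ≫ O'.ι ≫ D.obj.hom) (by
        simpa [subDatum, Category.assoc] using h') := by
      refine Eq.trans ?_ (subDatum_tr_ι D hO' A _ (h'.trans (by simp [subDatum])))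
      exact congrArg (· ≫ O'.ι) hB.symm
    obtain ⟨z⟩ := (inferInstance : Nonempty T)
    have hmem := hO.range_tr D (A ≫ O'.ι) (B ≫ O'.ι ≫ D.obj.hom) (by simpa [subDatum, Category.assoc] using h') hA ⟨z, rfl⟩
    rw [← htr, Scheme.Hom.comp_apply] at hmem
    have eb : B z = b := by
      rw [← ht₂]
      simp only [B, g, Scheme.Hom.comp_apply]
      exact congrArg (pullback.snd q q) (Scheme.fromSpecResidueField_apply t z)
    rw [eb] at hmem
    exact ⟨⟨O'.ι b, hmem⟩, O'.ι.injective (by rw [← Scheme.Hom.comp_apply, hi]; rfl)⟩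
  have hc : fpqcCover q := H.cover hp
  have := hc.quasiCompactCover
  let W : U.left.Opens := ⟨q '' Set.range i,
    DescAlg.FpqcCover.isOpen_of_preimage (PreZeroHypercover.singleton.{0} q) (fun _ ↦ hc.flat) _
      fun _ ↦ by
        show IsOpen (q ⁻¹' (q '' Set.range i))
        rw [hpre]; exact i.isOpenEmbedding.isOpen_range⟩
  have hrange : Set.range (i ≫ q) ⊆ Set.range W.ι := by
    rw [Scheme.Opens.range_ι]
    rintro _ ⟨z, rfl⟩
    exact ⟨i z, ⟨z, rfl⟩, rfl⟩
  let q' : (O : Scheme.{u}) ⟶ W := IsOpenImmersion.lift W.ι (i ≫ q) hrange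
  have hq' : q' ≫ W.ι = i ≫ q := IsOpenImmersion.lift_fac _ _ _
  refine ⟨Over.mk (W.ι ≫ U.hom), q', ?_, ?_⟩
  · have sq : IsPullback i q' q W.ι := by
      refine (IsOpenImmersion.isPullback _ _ _ _ hq'.symm ?_).flip
      ext x
      simp only [Scheme.Hom.coe_opensRange, Scheme.Opens.opensRange_ι]
      exact Set.ext_iff.1 hpre x
    have := sq.paste_horiz H.isPullback
    show IsPullback (O.ι ≫ D.obj.hom) q' p (W.ι ≫ U.hom)
    rw [← hi, Category.assoc]
    exact this
  · refine (cancel_mono W.ι).1 ?_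
    rw [Category.assoc, Category.assoc, hq']
    let v : V₂ (subDatum D hO) ⟶ (O : Scheme.{u}) := pr (subDatum D hO)
    let x := pr₁ (subDatum D hO)
    have hv : v ≫ (O.ι ≫ D.obj.hom) ≫ p = x ≫ p := pullback.condition
    have hv' : (v ≫ i) ≫ (O'.ι ≫ D.obj.hom) ≫ p = x ≫ p := by
      rw [← hv, ← hi]; simp
    have e : act (subDatum D hO) ≫ i = tr (subDatum D hO') (v ≫ i) x hv' := by
      refine (cancel_mono O'.ι).1 ?_
      rw [Category.assoc, hi, subDatum_tr_ι D hO' _ x hv']
      refine (congrArg (· ≫ O.ι) (act_eq_tr (subDatum D hO))).trans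
        ((subDatum_tr_ι D hO v x hv).trans ?_)
      exact tr_congr D _ (by rw [Category.assoc, hi]) rfl
    rw [← Category.assoc (act _), e, H.tr_comp _ (v ≫ i) x hv', Category.assoc]

/-- A descent datum covered by effective open subdata is effective. -/
theorem exists_of_subdata (hp : fpqcCover p) (D : Desc.SchDD p)
    (h : ∀ v : D.obj.left, ∃ (D' : Desc.SchDD p) (j : D' ⟶ D), IsOpenImmersion j.hom.left ∧
      v ∈ Set.range j.hom.left ∧ ∃ U' : Over S, Nonempty ((Desc.toDD p).obj U' ≅ D')) :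
    ∃ U : Over S, Nonempty ((Desc.toDD p).obj U ≅ D) := by
  let G : D.obj.left.Opens → Prop := fun O ↦ ∃ hO : Invariant D O,
    ∃ (U : Over S) (q : (O : Scheme.{u}) ⟶ U.left), IsDescended (subDatum D hO) U q
  have hcov : ∀ v : D.obj.left, ∃ O, G O ∧ v ∈ O := by
    intro v
    obtain ⟨D', j, hj, hv, U', ⟨e⟩⟩ := h v
    let O := j.hom.left.opensRange
    have hjtr : ∀ {T : Scheme.{u}} (a : T ⟶ D'.obj.left) (x : T ⟶ X)
        (ha : a ≫ D'.obj.hom ≫ p = x ≫ p),
        tr D' a x ha ≫ j.hom.left = tr D (a ≫ j.hom.left) x (by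
          rw [Category.assoc, Over.w_assoc j.hom]; exact ha) := by
      intro T a x ha
      have := j.comm (a ≫ D'.obj.hom) x (by rw [Category.assoc]; exact ha) ⟨a, rfl⟩
        ⟨a ≫ j.hom.left, by rw [Category.assoc, Over.w j.hom]⟩ rfl
      rw [φ_eq_tr, φ_eq_tr] at this
      exact this.symm
    have hsub : ∀ t : V₂ D, pr D t ∈ O → act D t ∈ O := by
      rintro t ⟨a, ha⟩
      let g := (V₂ D).fromSpecResidueField t
      obtain ⟨k, hk⟩ : ∃ k, k ≫ j.hom.left = g ≫ pr D := ⟨IsOpenImmersion.lift j.hom.left _ (by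
        rintro _ ⟨z, rfl⟩
        exact ⟨a, by simp only [g, Scheme.Hom.comp_apply, Scheme.fromSpecResidueField_apply, ha]⟩),
        IsOpenImmersion.lift_fac _ _ _⟩
      have hh : k ≫ D'.obj.hom ≫ p = (g ≫ pr₁ D) ≫ p := by
        rw [← Over.w j.hom, Category.assoc, reassoc_of% hk, Category.assoc]
        exact congrArg (g ≫ ·) pullback.condition
      have e : tr D' k (g ≫ pr₁ D) hh ≫ j.hom.left = g ≫ act D := by
        rw [hjtr, congrArg (g ≫ ·) (act_eq_tr D), comp_tr]
        exact tr_congr D _ hk rfl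
      obtain ⟨z⟩ := (inferInstance : Nonempty (Spec ((V₂ D).residueField t)))
      refine ⟨tr D' k (g ≫ pr₁ D) hh z, ?_⟩
      rw [← Scheme.Hom.comp_apply, e]
      simp only [g, Scheme.Hom.comp_apply, Scheme.fromSpecResidueField_apply]
    have hO : Invariant D O := by
      ext t
      refine ⟨hsub t, fun ht ↦ ?_⟩
      have := hsub (swap D t) (by rw [← Scheme.Hom.comp_apply, swap_pr]; exact ht)
      rwa [← Scheme.Hom.comp_apply, swap_act] at this
    refine ⟨O, ⟨hO, ?_⟩, hv⟩
    let k := j.hom.left.isoOpensRange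
    have hk : k.inv ≫ j.hom.left = O.ι := Scheme.Hom.isoOpensRange_inv_comp _
    have H' := exists_isDescended_of_iso _ e
    generalize e.inv.hom.left ≫ pullback.snd p U'.hom = q' at H'
    refine ⟨U', k.inv ≫ q', ?_, ?_⟩
    · show IsPullback (O.ι ≫ D.obj.hom) (k.inv ≫ q') p U'.hom
      refine H'.isPullback.of_iso k (Iso.refl _) (Iso.refl _) (Iso.refl _) ?_ (by simp) (by simp) (by simp)
      simp only [Iso.refl_hom, Category.comp_id]
      rw [← hk, Category.assoc, Iso.hom_inv_id_assoc, Over.w j.hom]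
    · let w : V₂ (subDatum D hO) ⟶ (O : Scheme.{u}) := pr (subDatum D hO)
      let x := pr₁ (subDatum D hO)
      have hw : w ≫ (O.ι ≫ D.obj.hom) ≫ p = x ≫ p := pullback.condition
      have hw' : (w ≫ k.inv) ≫ D'.obj.hom ≫ p = x ≫ p := by
        rw [← hw, ← hk, ← Over.w j.hom]; simp
      have e' : act (subDatum D hO) ≫ k.inv = tr D' (w ≫ k.inv) x hw' := by
        refine (cancel_mono j.hom.left).1 ?_
        rw [Category.assoc, hk, hjtr]
        refine (congrArg (· ≫ O.ι) (act_eq_tr (subDatum D hO))).trans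
          ((subDatum_tr_ι D hO w x hw).trans ?_)
        exact tr_congr D _ (by rw [Category.assoc, hk]) rfl
      rw [← Category.assoc (act _), e', H'.tr_comp _ (w ≫ k.inv) x hw', Category.assoc]
  obtain ⟨U, q, H⟩ := OpensCover.exists_isDescended_of_cover hp D G
    (fun O O' ⟨hO, U, q, H⟩ ⟨hO', _⟩ ↦ ⟨hO.inf D hO', exists_of_le hp D (hO.inf D hO') hO inf_le_left H⟩)
    (fun O hO ↦ hO.choose) hcov (fun O hO ↦ hO.choose_spec)
  exact H.exists_iso

end Groth.Agent.Lib.DescAlg.Effective.Opens
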