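import Groth.Agent.Lib.FFDesc.Effective
import Groth.Agent.Lib.DescAlg.FpqcCover
import Groth.Agent.Lib.DescAlg.Descends
import Groth.Agent.Lib.FFDesc.SubDatum
import Mathlib.AlgebraicGeometry.Morphisms.FlatDescent

/-!
# Descent data covered by effective invariant opens are effective (arbitrary fpqc covers)

Adapted from helper8's `Lib.FFDesc.OpensCover`, without quasi-compactness of the covering map.
-/

universe u

open CategoryTheory CategoryTheory.Limits AlgebraicGeometry TopologicalSpace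

namespace Groth.Agent.Lib.DescAlg.Effective.OpensCover

open Groth.Agent.Lib.FFDesc

variable {X S : Scheme.{u}} {p : X ⟶ S}

set_option backward.isDefEq.respectTransparency false in
/-- A descent datum covered by invariant quasi-compact opens on which it is effective is effective,
over an affine base. -/
theorem exists_isDescended_of_cover (hp : fpqcCover p) (D : Desc.SchDD p)
    (G : D.obj.left.Opens → Prop)
    (hG : ∀ O O' : D.obj.left.Opens, G O → G O' → G (O ⊓ O'))
    (hinv : ∀ O, G O → Invariant D O)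
    (hcov' : ∀ v : D.obj.left, ∃ O, G O ∧ v ∈ O)
    (hO : ∀ (O : D.obj.left.Opens) (h : G O),
      ∃ (U : Over S) (q : (O : Scheme.{u}) ⟶ U.left),
        IsDescended (subDatum D (hinv O h)) U q) :
    ∃ (U : Over S) (q : D.obj.left ⟶ U.left), IsDescended D U q := by
  let V := D.obj.left
  let I := {O : V.Opens // G O}
  choose UO qO HO using fun O : I ↦ hO O.1 O.2
  have hcov : ∀ v : V, ∃ O : I, v ∈ O.1 := fun v ↦ by
    obtain ⟨O, h1, h2⟩ := hcov' v
    exact ⟨⟨O, h1⟩, h2⟩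
  have hinf : ∀ a b : I, G (a.1 ⊓ b.1) := fun a b ↦ hG _ _ a.2 b.2
  -- transition maps
  have hl : ∀ (a b : I) (hab : a ≤ b),
      ∃ l : (UO a).left ⟶ (UO b).left, qO a ≫ l = V.homOfLE hab ≫ qO b := fun a b hab ↦ by
    refine (HO a).exists_desc hp _ ?_
    let v : V₂ (subDatum D (hinv _ a.2)) ⟶ (a.1 : Scheme.{u}) := pr (subDatum D (hinv _ a.2))
    let x : V₂ (subDatum D (hinv _ a.2)) ⟶ X := pr₁ (subDatum D (hinv _ a.2))
    have hv : v ≫ (a.1.ι ≫ D.obj.hom) ≫ p = x ≫ p := pullback.condition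
    have hv' : (v ≫ V.homOfLE hab) ≫ (b.1.ι ≫ D.obj.hom) ≫ p = x ≫ p := by
      rw [← hv]; simp
    have e : act (subDatum D (hinv _ a.2)) ≫ V.homOfLE hab =
        tr (subDatum D (hinv _ b.2)) (v ≫ V.homOfLE hab) x hv' := by
      refine (cancel_mono b.1.ι).1 ?_
      refine Eq.trans ?_ (subDatum_tr_ι D (hinv _ b.2) _ x hv').symm
      refine ((Category.assoc _ _ _).trans (congrArg (act (subDatum D (hinv _ a.2)) ≫ ·)
        (V.homOfLE_ι hab))).trans ?_
      refine (congrArg (· ≫ a.1.ι) (act_eq_tr (subDatum D (hinv _ a.2)))).trans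
        ((subDatum_tr_ι D (hinv _ a.2) v x hv).trans ?_)
      exact tr_congr D _ ((congrArg (v ≫ ·) (V.homOfLE_ι hab).symm).trans (Category.assoc _ _ _).symm) rfl
    refine Eq.trans ?_ ((congrArg (· ≫ qO b) e.symm).trans (Category.assoc _ _ _))
    exact (Category.assoc _ _ _).symm.trans ((HO b).tr_comp _ (v ≫ V.homOfLE hab) x hv').symm
  choose l hl using hl
  have Hw : ∀ a : I, (a.1.ι ≫ D.obj.hom) ≫ p = qO a ≫ (UO a).hom := fun a ↦ (HO a).isPullback.w
  have Hext : ∀ (a : I) {Z : Scheme.{u}} {f g : (UO a).left ⟶ Z},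
      qO a ≫ f = qO a ≫ g → f = g := fun a _ _ _ e ↦ (HO a).hom_ext hp e
  have Hpb : ∀ a : I, IsPullback (a.1.ι ≫ D.obj.hom) (qO a) p (UO a).hom :=
    fun a ↦ (HO a).isPullback
  have hlw : ∀ (a b : I) (hab : a ≤ b), l a b hab ≫ (UO b).hom = (UO a).hom := fun a b hab ↦ by
    refine Hext a ?_
    rw [← Category.assoc, hl a b hab, Category.assoc, ← Hw b, ← Hw a]
    simp
  have hlsq : ∀ (a b : I) (hab : a ≤ b),
      IsPullback (V.homOfLE hab) (qO a) (qO b) (l a b hab) := fun a b hab ↦ by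
    refine IsPullback.of_right ?_ (hl a b hab).symm (Hpb b)
    rw [hlw, V.homOfLE_ι_assoc]
    exact Hpb a
  have hlo : ∀ (a b : I) (hab : a ≤ b), IsOpenImmersion (l a b hab) := fun a b hab ↦ by
    have hc : fpqcCover (qO b) := (HO b).cover hp
    have := hc.quasiCompactCover
    have : IsZariskiLocalAtTarget (@IsOpenImmersion : MorphismProperty Scheme.{u}) := inferInstance
    refine DescAlg.FpqcCover.of_fpqcCover @IsOpenImmersion inferInstance (l a b hab)
      (PreZeroHypercover.singleton.{0} (qO b)) (fun _ ↦ hc.flat) fun _ ↦ ?_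
    show IsOpenImmersion (pullback.snd (l a b hab) (qO b))
    rw [← (hlsq a b hab).flip.isoPullback_inv_snd]
    infer_instance
  have hmem : ∀ (a b : I) (hab : a ≤ b) (v : (b.1 : Scheme.{u})) (u : (UO a).left),
      l a b hab u = qO b v → b.1.ι v ∈ a.1 := fun a b hab v u e ↦ by
    obtain ⟨w, hw, -⟩ := Scheme.exists_preimage_of_isPullback (hlsq a b hab) v u e.symm
    rw [← hw, ← Scheme.Hom.comp_apply, V.homOfLE_ι]
    exact w.2
  have hsurj : ∀ a : I, Function.Surjective (qO a) := fun a ↦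
    ((HO a).cover hp).surjective.surj
  let F : I ⥤ Scheme.{u} :=
    { obj a := (UO a).left
      map {a b} f := l a b (leOfHom f)
      map_id a := Hext a (by rw [hl, Category.comp_id]; simp)
      map_comp {a b c} f g := Hext a (by
        rw [hl, ← Category.assoc, hl, Category.assoc, hl, V.homOfLE_homOfLE_assoc]) }
  have hFo : ∀ {a b : I} (f : a ⟶ b), IsOpenImmersion (F.map f) := fun f ↦ hlo _ _ (leOfHom f)
  have hFd : (F ⋙ Scheme.forget).IsLocallyDirected := by
    refine ⟨fun {i j k} fi fj xi xj he ↦ ?_⟩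
    simp only [Functor.comp_obj, Scheme.forget_obj, Functor.comp_map, Scheme.forget_map] at he xi xj
    have he' : l i k (leOfHom fi) xi = l j k (leOfHom fj) xj := he
    obtain ⟨v, hv⟩ := hsurj k (l i k (leOfHom fi) xi)
    have h1 : k.1.ι v ∈ i.1 := hmem i k _ v xi hv.symm
    have h2 : k.1.ι v ∈ j.1 := hmem j k _ v xj (he'.symm.trans hv.symm)
    let m : I := ⟨i.1 ⊓ j.1, hinf i j⟩
    have hmi : m ≤ i := inf_le_left (a := i.1) (b := j.1)
    have hmj : m ≤ j := inf_le_right (a := i.1) (b := j.1)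
    let w : (m.1 : Scheme.{u}) := ⟨k.1.ι v, h1, h2⟩
    have hwv : ∀ hmk : m ≤ k, V.homOfLE hmk w = v := fun hmk ↦ by
      apply k.1.ι.injective
      rw [← Scheme.Hom.comp_apply, V.homOfLE_ι]
      rfl
    have hk : ∀ (n : I) (hmn : m ≤ n) (hnk : n ≤ k),
        l n k hnk (l m n hmn (qO m w)) = qO k v := fun n hmn hnk ↦ by
      rw [← Scheme.Hom.comp_apply, ← Scheme.Hom.comp_apply, ← Category.assoc, hl, Category.assoc,
        hl, V.homOfLE_homOfLE_assoc, Scheme.Hom.comp_apply, hwv]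
    refine ⟨m, homOfLE hmi, homOfLE hmj, qO m w, ?_, ?_⟩
    · exact (hlo i k (leOfHom fi)).base_open.injective ((hk i hmi _).trans hv)
    · exact (hlo j k (leOfHom fj)).base_open.injective (((hk j hmj _).trans hv).trans he')
  let 𝒰 := Scheme.IsLocallyDirected.openCover F
  let hom : colimit F ⟶ S := colimit.desc F
    { pt := S
      ι := { app a := (UO a).hom
             naturality a b f := (hlw a b (leOfHom f)).trans (Category.comp_id _).symm } }
  have hιhom : ∀ a : I, colimit.ι F a ≫ hom = (UO a).hom := fun a ↦ colimit.ι_desc _ a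
  have hhomOfLE : ∀ (a b : I) (hab : a ≤ b),
      V.homOfLE hab ≫ qO b ≫ colimit.ι F b = qO a ≫ colimit.ι F a := fun a b hab ↦ by
    rw [← reassoc_of% hl a b hab]
    exact congrArg (qO a ≫ ·) (colimit.w F (homOfLE hab))
  let 𝒱 : V.OpenCover := V.openCoverOfIsOpenCover (fun a : I ↦ a.1)
    (top_le_iff.1 fun v _ ↦ by
      obtain ⟨a, ha⟩ := hcov v
      exact Opens.mem_iSup.2 ⟨a, ha⟩)
  obtain ⟨q, hq⟩ : ∃ q : V ⟶ colimit F, ∀ a : I, a.1.ι ≫ q = qO a ≫ colimit.ι F a := by
    refine ⟨𝒱.glueMorphisms (fun a ↦ qO a ≫ colimit.ι F a) ?hc,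
      fun a ↦ 𝒱.ι_glueMorphisms _ ?hc a⟩
    intro (a : I) (b : I)
    let m : I := ⟨a.1 ⊓ b.1, hinf a b⟩
    have hsub : Set.range (pullback.fst a.1.ι b.1.ι ≫ a.1.ι) ⊆ Set.range m.1.ι := by
      rw [Scheme.Opens.range_ι]
      rintro _ ⟨z, rfl⟩
      refine ⟨?_, ?_⟩
      · rw [Scheme.Hom.comp_apply]; exact Subtype.coe_prop _
      · rw [pullback.condition, Scheme.Hom.comp_apply]; exact Subtype.coe_prop _
    let k := IsOpenImmersion.lift m.1.ι _ hsub
    have hk : k ≫ m.1.ι = pullback.fst a.1.ι b.1.ι ≫ a.1.ι := IsOpenImmersion.lift_fac _ _ _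
    have hma : m ≤ a := inf_le_left (a := a.1) (b := b.1)
    have hmb : m ≤ b := inf_le_right (a := a.1) (b := b.1)
    have ea : k ≫ V.homOfLE hma = pullback.fst a.1.ι b.1.ι := by
      rw [← cancel_mono a.1.ι, Category.assoc, V.homOfLE_ι, hk]
    have eb : k ≫ V.homOfLE hmb = pullback.snd a.1.ι b.1.ι := by
      rw [← cancel_mono b.1.ι, Category.assoc, V.homOfLE_ι, hk, pullback.condition]
    change pullback.fst a.1.ι b.1.ι ≫ _ = pullback.snd a.1.ι b.1.ι ≫ _
    rw [← ea, ← eb, Category.assoc, Category.assoc, hhomOfLE, hhomOfLE]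
  have hqsq : ∀ a : I, IsPullback (qO a) a.1.ι (colimit.ι F a) q := fun a ↦ by
    refine IsOpenImmersion.isPullback _ _ _ _ (hq a) ?_
    ext v
    rw [Scheme.Opens.opensRange_ι]
    constructor
    · rintro ⟨u, hu⟩
      obtain ⟨b, hb⟩ := hcov v
      have hqv : q v = colimit.ι F b (qO b ⟨v, hb⟩) := by
        rw [← Scheme.Hom.comp_apply, ← hq b]
        rfl
      obtain ⟨c, fa, fb, y, -, hy⟩ :=
        (Scheme.IsLocallyDirected.ι_eq_ι_iff F).1 (hu.trans hqv)
      exact leOfHom fa (hmem c b (leOfHom fb) ⟨v, hb⟩ y hy)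
    · intro hv
      exact ⟨qO a ⟨v, hv⟩, by rw [← Scheme.Hom.comp_apply, ← hq a]; rfl⟩
  refine ⟨Over.mk hom, q, ⟨?_, ?_⟩⟩
  · refine (Scheme.isPullback_of_openCover q D.obj.hom hom p 𝒰 fun (a : I) ↦ ?_).flip
    have big : IsPullback (qO a) (a.1.ι ≫ D.obj.hom) (colimit.ι F a ≫ hom) p := by
      rw [hιhom]
      exact (Hpb a).flip
    refine big.of_iso ((hqsq a).flip.isoPullback) (Iso.refl _) (Iso.refl _) (Iso.refl _)
      ?_ ?_ (by simp [𝒰]) (by simp)
    · exact (Category.comp_id _).trans (hqsq a).flip.isoPullback_hom_snd.symm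
    · refine (Category.comp_id _).trans ?_
      exact ((congrArg (· ≫ D.obj.hom) (hqsq a).flip.isoPullback_hom_fst).symm).trans
        (Category.assoc _ _ _)
  · refine Scheme.Cover.hom_ext (𝒱.pullback₁ (pr D)) _ _ fun (a : I) ↦ ?_
    let π := pullback.fst (pr D) a.1.ι
    let σ := pullback.snd (pr D) a.1.ι
    change π ≫ pr D ≫ q = π ≫ act D ≫ q
    have h0 : π ≫ pr D = σ ≫ a.1.ι := pullback.condition
    have hx : σ ≫ (a.1.ι ≫ D.obj.hom) ≫ p = (π ≫ pr₁ D) ≫ p := by
      rw [Category.assoc, Category.assoc, ← reassoc_of% h0]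
      exact congrArg (π ≫ ·) pullback.condition
    let k := tr (subDatum D (hinv _ a.2)) σ (π ≫ pr₁ D) hx
    have hk : k ≫ a.1.ι = π ≫ act D := by
      refine (subDatum_tr_ι D (hinv _ a.2) σ (π ≫ pr₁ D) hx).trans ?_
      rw [congrArg (π ≫ ·) (act_eq_tr D), comp_tr]
      exact tr_congr D _ h0.symm rfl
    rw [reassoc_of% h0, ← reassoc_of% hk, hq a, ← Category.assoc, ← Category.assoc]
    exact congrArg (· ≫ colimit.ι F a) ((HO a).tr_comp _ σ _ hx).symm

end Groth.Agent.Lib.DescAlg.Effective.OpensCover
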